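import Cfsg.Agent.TAB.Co2.Chk
import Cfsg.Agent.TAB.Co.Str
import Cfsg.Agent.H419.LeechIrr
import Cfsg.Agent.S0157

/-!
# The table of `Co2` (helper88, TAB)

Model on 2300 points and classes of helper633, traces of helper11.
`van`, `odd`, `sig`, `deg` : what VAN, ODD, GAL and KZ need.
-/

set_option autoImplicit false
set_option maxRecDepth 1000000

namespace Cfsg.Agent.TAB.Co2

open Cfsg Cfsg.Agent.TAB.Eng Cfsg.Agent.TAB.Use Cfsg.Agent.TAB.Co
open Cfsg.Agent.H633.Ore Cfsg.Agent.H633.Ore.Co2 Cfsg.Agent.H633.Ore.Co2D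
open Cfsg.Agent.H843.IMC.Co2B (Y card_Y)
open Cfsg.Agent.Characters.Core Cfsg.Agent.Characters.Brauer
open Cfsg.Agent.CoOneType.CoEval (Rep rep_mk)
open Cfsg.Agent.DZ3.Spor.Tr (tab tab_sound E_of_rep diag_eq)
open Cfsg.Agent.Co2Type.Mono (tr8 toCo0)
open Cfsg.Agent.H419.LeechIrr (lchi isCharacter_lchi)

theorem finite : Finite Spor.Co2 := Nat.finite_of_card_ne_zero (by rw [card_co2]; norm_num)

theorem tr_E {e : List ℕ × ℕ} (he : e ∈ E) : tr8 (toCo0 (wd e.1)) = 8 * nth (ntd seeds [] 0) e.2 + 8 := by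
  have h := E_tr
  rw [tab_sound (e := fun k => toCo0 (tt k)) (A0 := en R0) (A1 := en R1) (A2 := en R2)
    (E_of_rep (rep_mk (Cfsg.Agent.CoOneType.CoFast.ok_of_okZ ok0)))
    (E_of_rep (rep_mk (Cfsg.Agent.CoOneType.CoFast.ok_of_okZ ok1)))
    (fun _ => E_of_rep (rep_mk (Cfsg.Agent.CoOneType.CoFast.ok_of_okZ ok2))),
    List.map_map, List.map_map, List.map_inj_left] at h
  have h1 : (((tr8 ((e.1.map fun k => toCo0 (tt k)).prod ^ (0 + 1)) + 384).toNat : ℕ) : ℤ) = _ := h e he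
  have h2 : (e.1.map fun k => toCo0 (tt k)).prod = toCo0 (wd e.1) := by
    unfold wd
    rw [map_list_prod, List.map_map]
    rfl
  rw [zero_add, pow_one, h2, ← diag_eq, Int.toNat_natCast, diag_eq] at h1
  omega

theorem seeds_eq : seeds = [ntd seeds [] 0, valL] := rfl

/-- the permutation character -/
noncomputable def pc (g : Spor.Co2) : ℂ := (Nat.card (MulAction.fixedBy Y g) : ℂ)

theorem gen_pc : IsGeneralizedCharacter Spor.Co2 pc :=
  haveI : Finite Y := Nat.finite_of_card_ne_zero (by rw [card_Y]; norm_num)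
  isGeneralizedCharacter_of_isCharacter (S0157.isCharacter_fixedBy (G := Spor.Co2) Y)

/-- the key -/
noncomputable def K : Key Spor.Co2 ℤ := @keyG _ _ finite _ gen_pc

theorem K_one : K.P 1 (nth valL 0) := by
  show (Nat.card {y : Y // (1 : Spor.Co2) • y = y} : ℂ) = ((2300 : ℤ) : ℂ)
  rw [Nat.card_congr (Equiv.subtypeUnivEquiv fun y => one_smul _ y), card_Y]
  norm_num

theorem ty_E {e : List ℕ × ℕ} (he : e ∈ E) : e.2 < D.n ∧ Ty K D (nth valL) e.2 (wd e.1) := by
  have h := chk_all he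
  simp only [chk, Bool.and_eq_true, decide_eq_true_eq, wmF_eq, pwF_eq] at h
  obtain ⟨⟨h1, h2⟩, h3⟩ := h
  refine ⟨h1, ty_of_vals ok_ord K_one h1 (ordT_sound h2) fun p hp => ?_⟩
  have h4 := allL_spec h3 p hp
  rw [Bool.and_eq_true, decide_eq_true_eq, decide_eq_true_eq, nthL_eq, cntF_eq (Rp_pw _ h4.1)] at h4
  show (Nat.card {y : Y // wd e.1 ^ p.1 • y = y} : ℂ) = _
  rw [← h4.2, Int.cast_natCast]

/-- the seeds -/
noncomputable def F : List (Spor.Co2 → ℂ) := [lchi toCo0 - 1, pc]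

theorem vals_E {e : List ℕ × ℕ} (he : e ∈ E) : Vals F seeds e.2 (wd e.1) := by
  obtain ⟨h1, h2⟩ := ty_E he
  rw [seeds_eq]
  refine List.Forall₂.cons ?_ (List.Forall₂.cons ?_ List.Forall₂.nil)
  · show (tr8 (toCo0 (wd e.1)) : ℂ) / 8 - 1 = _
    rw [tr_E he]
    push_cast
    ring
  · have h3 := allL_spec E_all _ (List.mem_range.2 h1)
    simp only [Bool.and_eq_true, Bool.or_eq_true, List.any_eq_true, beq_iff_eq] at h3
    rcases h3.2 with h4 | ⟨p, hp, h4, h5⟩
    · have h5 := h2.1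
      rw [h4] at h5 ⊢
      rw [orderOf_eq_one_iff.1 h5]
      exact K_one
    · have h6 := h2.2 p hp
      rw [h4, h5, pow_one] at h6
      exact h6

/-- the types with two classes -/
def S : List ℕ := [42, 44, 50, 55]

/-- the lower bound -/
def Bd (e : List ℕ × ℕ) : Prop :=
  D.cnt e.2 ≤ Nat.card {g : Spor.Co2 // IsConj (wd e.1) g ∨ (e.2 ∈ S ∧ IsConj (wd e.1)⁻¹ g)}

theorem bR {w : List ℕ} {N : ℕ} {s : List Step} {c t : ℕ} (hW : chkW w N s = true) (hc : prodB s = c)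
    (hq : Nat.ble (D.cnt t * c) 42305421312000 = true) : Bd (w, t) := by
  refine le_one_cls (c := c) ?_ (by rw [card_co2]; exact Nat.le_of_ble_eq_true hq)
  rw [← hc]
  exact chkW_sound hW _ fun x hx => (Subgroup.mem_centralizer_iff.1 hx _ rfl).symm

theorem bC {w : List ℕ} {q t : ℕ} {k : ℕ × ℕ × ℕ × ℕ × ℕ} (h : GE w q k) (ht : t ∈ S)
    (hq : Nat.beq (D.cnt t) q = true) : Bd (w, t) := by
  refine (Nat.eq_of_beq_eq_true hq).le.trans (h.2.trans_eq (Nat.card_congr (Equiv.subtypeEquivRight fun g => ?_)))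
  exact or_congr Iff.rfl ⟨fun h => ⟨ht, h⟩, fun h => h.2⟩

theorem b0 : Bd ([], 0) :=
  le_one_cls (c := Nat.card Spor.Co2) (Subgroup.card_le_card_group _) (one_mul _).le

theorem bd_E : ∀ e ∈ E, Bd e := by
  simp only [E, E0, E1, E2, E3, List.forall_mem_append, List.forall_mem_cons]
  exact ⟨⟨⟨⟨b0, bR C0.k1 C0.b1 (by decide +kernel),
    bR C0.k2 C0.b2 (by decide +kernel), bR C0.k3 C0.b3 (by decide +kernel),
    bR C0.k4 C0.b4 (by decide +kernel), bR C0.k5 C0.b5 (by decide +kernel),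
    bR C1.k6 C1.b6 (by decide +kernel), bR C1.k7 C1.b7 (by decide +kernel),
    bR C1.k8 C1.b8 (by decide +kernel), bR C1.k9 C1.b9 (by decide +kernel),
    bR C1.k10 C1.b10 (by decide +kernel), bR C2.k11 C2.b11 (by decide +kernel),
    bR C2.k12 C2.b12 (by decide +kernel), bR C2.k13 C2.b13 (by decide +kernel),
    bR C2.k14 C2.b14 (by decide +kernel), bR C2.k15 C2.b15 (by decide +kernel),
    bR C3.k16 C3.b16 (by decide +kernel), bR C3.k17 C3.b17 (by decide +kernel),
    bR C3.k18 C3.b18 (by decide +kernel), bR C3.k19 C3.b19 (by decide +kernel),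
    bR C3.k20 C3.b20 (by decide +kernel), bR C4.k21 C4.b21 (by decide +kernel),
    bR C4.k22 C4.b22 (by decide +kernel), bR C4.k23 C4.b23 (by decide +kernel),
    bR C4.k24 C4.b24 (by decide +kernel), bR C4.k25 C4.b25 (by decide +kernel),
    bR C5.k26 C5.b26 (by decide +kernel), bR C5.k27 C5.b27 (by decide +kernel),
    fun _ h => by cases h⟩,
    ⟨bR C5.k28 C5.b28 (by decide +kernel), bR C5.k29 C5.b29 (by decide +kernel),
    bR C5.k30 C5.b30 (by decide +kernel), bR C6.k31 C6.b31 (by decide +kernel),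
    bR C6.k32 C6.b32 (by decide +kernel), bR C6.k33 C6.b33 (by decide +kernel),
    bR C6.k34 C6.b34 (by decide +kernel), bR C6.k35 C6.b35 (by decide +kernel),
    bR C7.k36 C7.b36 (by decide +kernel), bR C7.k37 C7.b37 (by decide +kernel),
    bR C7.k38 C7.b38 (by decide +kernel), bR C7.k39 C7.b39 (by decide +kernel),
    fun _ h => by cases h⟩⟩,
    ⟨bR C7.k40 C7.b40 (by decide +kernel), bR C8.k41 C8.b41 (by decide +kernel),
    bC g42 (by decide) (by decide +kernel), bR C8.k43 C8.b43 (by decide +kernel),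
    bC g44 (by decide) (by decide +kernel), bR C8.k45 C8.b45 (by decide +kernel),
    bR C9.k46 C9.b46 (by decide +kernel), bR C9.k47 C9.b47 (by decide +kernel),
    bR C9.k48 C9.b48 (by decide +kernel), fun _ h => by cases h⟩⟩,
    ⟨bR C9.k49 C9.b49 (by decide +kernel), bC g50 (by decide) (by decide +kernel),
    bR C10.k51 C10.b51 (by decide +kernel), bR C10.k52 C10.b52 (by decide +kernel),
    bR C10.k53 C10.b53 (by decide +kernel), bR C10.k54 C10.b54 (by decide +kernel),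
    bC g55 (by decide) (by decide +kernel), fun _ h => by cases h⟩⟩

theorem str : ∃ T : TD Spor.Co2 D, T.Mass ∧ Str T S ∧ (∀ g, ∀ i < D.n, T.ty g = i ↔ Ty K D (nth valL) i g) ∧
    ∀ sd ∈ seeds, Virt T (nth sd) := by
  refine exists_str okPow okSep okSum card_co2 (F := F) ?_ fun t ht => ?_
  · exact List.forall_mem_cons.2 ⟨isGeneralizedCharacter_sub (isGeneralizedCharacter_of_isCharacter
      (isCharacter_lchi toCo0)) (isGeneralizedCharacter_of_isCharacter isCharacter_one),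
      List.forall_mem_singleton.2 gen_pc⟩
  · have h := allL_spec E_all _ (List.mem_range.2 ht)
    simp only [Bool.and_eq_true, List.any_eq_true, beq_iff_eq] at h
    obtain ⟨e, he, rfl⟩ := h.1
    exact ⟨_, (ty_E he).2, bd_E e he, vals_E he⟩

theorem seeded : Seeded Spor.Co2 D seeds := by
  obtain ⟨T, h1, -, -, h2⟩ := str
  exact ⟨T, h1, h2⟩

/-- conjugates the element of order 30 to its 17th power -/
def uw : List ℕ := [2, 0, 2, 1, 0, 2, 1, 0, 1, 0, 1, 0, 2, 1, 2, 1, 0, 2, 0, 1, 2, 0, 2, 1, 2, 0, 1, 2, 0, 2, 0, 1, 2, 1, 0, 1,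
  2, 1, 2, 1]

theorem uw_ok : (wm C10.w55 ID22).map (linL (wm uw ID22)) =
    (wm uw ID22).map (linL ((pw (wm C10.w55 ID22) 18 ID22).getD 17 [])) := by decide +kernel

theorem conj17 : IsConj (wd C10.w55) (wd C10.w55 ^ 17) := by
  have h : ∀ w, M.Rp (wm w ID22) (wd w) := fun w => by rw [ID22_eq]; exact rp_wd w
  have h1 := Mdl.Rp.mul M (h uw) (h C10.w55)
  rw [uw_ok] at h1
  have h2 := eq_of_rp h1 (Mdl.Rp.mul M (Rp_pw (N := 18) 17 (by norm_num)) (h uw))
  exact isConj_iff.2 ⟨wd uw, by rw [h2, mul_inv_cancel_right]⟩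

theorem van : VAN.Van3 Spor.Co2 := (fin seeded).1

theorem deg : DegList Spor.Co2 degL := (fin seeded).2

/-- all characters are `2`-rational -/
theorem allRat : AllRat Spor.Co2 := by
  obtain ⟨T, -, h, -⟩ := str
  exact h.allRat (by decide +kernel)

theorem odd : OddRat Spor.Co2 := fun χ hχ _ => allRat χ hχ

theorem sig : OddSig Spor.Co2 := by
  obtain ⟨T, -, h, hT, -⟩ := str
  have h1 : Ty K D (nth valL) 55 (wd C10.w55) :=
    (ty_E (e := (C10.w55, 55)) (List.mem_append_right _ (by simp [E3]))).2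
  have h2 := (hT _ 55 (by decide)).2 h1
  intro χ hχ _ σ hσ
  refine h.allSig [(42, 1, 7, 3), (50, 0, 23, 5)] (by decide +kernel) [44, 55] ?_ (by decide)
    (isIrr_isCharacter hχ) hσ
  refine List.forall_mem_cons.2 ⟨⟨wd C10.w55 ^ 2, 0, 15, 17, ?_, by decide +kernel, ?_⟩,
    List.forall_mem_singleton.2 ⟨_, 1, 15, 17, h2, by decide +kernel, conj17⟩⟩
  · rw [T.pow, h2]
    decide +kernel
  · rw [← pow_mul, mul_comm, pow_mul]
    exact isConj_pow conj17 2

end Cfsg.Agent.TAB.Co2
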