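import Cfsg.Agent.TAB.Co.Fin

/-!
# The table of `Co2` : numerical data and certificates (helper88, TAB)

The types are 0:1a 1:2a 2:2b 3:2c 4:3a 5:3b 6:4a 7:4b 8:4c 9:4d 10:4e 11:4f 12:4g 13:5a 14:5b 15:6a 16:6b 17:6c 18:6d 19:6e
20:6f 21:7a 22:8a 23:8b 24:8c 25:8d 26:8e 27:8f 28:9a 29:10a 30:10b 31:10c 32:11a 33:12a 34:12b 35:12c 36:12d
37:12e 38:12f 39:12g 40:12h 41:14a 42:14bc 43:15a 44:15bc 45:16a 46:16b 47:18a 48:20a 49:20b 50:23ab 51:24a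
52:24b 53:28a 54:30a 55:30bc.
-/

set_option autoImplicit false
set_option maxRecDepth 100000

namespace Cfsg.Agent.TAB.Co2

open Cfsg Cfsg.Agent.TAB.Eng Cfsg.Agent.TAB.Use Cfsg.Agent.TAB.Co Cfsg.Agent.TAB.Sm2

/-- the types -/
def D : Dat where
n := 56
N := 42305421312000
ordL := [1, 2, 2, 2, 3, 3, 4, 4, 4, 4, 4, 4, 4, 5, 5, 6, 6, 6, 6, 6, 6, 7, 8, 8, 8, 8, 8, 8, 9, 10, 10, 10, 11, 12, 12, 12, 12, 12, 12, 12, 12, 14,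
    14, 15, 15, 16, 16, 18, 20, 20, 23, 24, 24, 28, 30, 30]
cntL := [1, 56925, 1024650, 28690200, 90675200, 272025600, 13662000, 344282400, 573804000, 860706000, 6885648000, 6885648000, 33051110400,
    14101807104, 70509035520, 7344691200, 8160768000, 9792921600, 12241152000, 73446912000, 146893824000, 755453952000, 55085184000, 55085184000,
    82627776000, 82627776000, 165255552000, 661022208000, 783433728000, 352545177600, 705090355200, 1057635532800, 3845947392000, 48964608000,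
    146893824000, 146893824000, 146893824000, 440681472000, 440681472000, 881362944000, 881362944000, 755453952000, 3021815808000, 1410180710400,
    2820361420800, 1322044416000, 1322044416000, 2350301184000, 2115271065600, 2115271065600, 3678732288000, 1762725888000, 1762725888000,
    1510907904000, 1410180710400, 2820361420800]
pwL := [[],
[(1, 1)],
[(1, 2)],
[(1, 3)],
[(1, 4)],
[(1, 5)],
[(1, 6), (2, 1)],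
[(1, 7), (2, 2)],
[(1, 8), (2, 2)],
[(1, 9), (2, 1)],
[(1, 10), (2, 2)],
[(1, 11), (2, 2)],
[(1, 12), (2, 3)],
[(1, 13)],
[(1, 14)],
[(1, 15), (2, 4), (3, 2)],
[(1, 16), (2, 4), (3, 1)],
[(1, 17), (2, 5), (3, 1)],
[(1, 18), (2, 5), (3, 1)],
[(1, 19), (2, 5), (3, 2)],
[(1, 20), (2, 5), (3, 3)],
[(1, 21)],
[(1, 22), (2, 8), (4, 2)],
[(1, 23), (2, 6), (4, 1)],
[(1, 24), (2, 9), (4, 1)],
[(1, 25), (2, 9), (4, 1)],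
[(1, 26), (2, 8), (4, 2)],
[(1, 27), (2, 11), (4, 2)],
[(1, 28), (3, 4)],
[(1, 29), (2, 13), (5, 2)],
[(1, 30), (2, 14), (5, 1)],
[(1, 31), (2, 14), (5, 3)],
[(1, 32)],
[(1, 33), (2, 16), (3, 6), (4, 4), (6, 1)],
[(1, 34), (2, 19), (3, 8), (4, 5), (6, 2)],
[(1, 35), (2, 15), (3, 8), (4, 4), (6, 2)],
[(1, 36), (2, 18), (3, 6), (4, 5), (6, 1)],
[(1, 37), (2, 19), (3, 7), (4, 5), (6, 2)],
[(1, 38), (2, 16), (3, 9), (4, 4), (6, 1)],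
[(1, 39), (2, 19), (3, 10), (4, 5), (6, 2)],
[(1, 40), (2, 15), (3, 11), (4, 4), (6, 2)],
[(1, 41), (2, 21), (7, 1)],
[(1, 42), (2, 21), (7, 2)],
[(1, 43), (3, 14), (5, 5)],
[(1, 44), (3, 13), (5, 4)],
[(1, 45), (2, 25), (4, 9), (8, 1)],
[(1, 46), (2, 24), (4, 9), (8, 1)],
[(1, 47), (2, 28), (3, 16), (6, 4), (9, 1)],
[(1, 48), (2, 31), (4, 14), (5, 12), (10, 3)],
[(1, 49), (2, 29), (4, 13), (5, 7), (10, 2)],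
[(1, 50)],
[(1, 51), (2, 36), (3, 23), (4, 18), (6, 6), (8, 5), (12, 1)],
[(1, 52), (2, 35), (3, 22), (4, 15), (6, 8), (8, 4), (12, 2)],
[(1, 53), (2, 41), (4, 21), (7, 6), (14, 1)],
[(1, 54), (2, 43), (3, 30), (5, 17), (6, 14), (10, 5), (15, 1)],
[(1, 55), (2, 44), (3, 29), (5, 15), (6, 13), (10, 4), (15, 2)]]

/-- the values of the key -/
def valL : List ℤ := [2300, 284, 140, 52, 5, 41, 28, 40, 32, 4, 12, 16, 0, 0, 10, 5, 5, 11, 17, 5, 7, 4, 10, 4, 0, 4, 6, 2, 2, 0, 4, 2, 1, 1, 5, 5, 1,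
    1, 1, 3, 1, 4, 0, 1, 0, 2, 0, 2, 0, 0, 0, 1, 1, 0, 1, 0]

/-- the seeds : the characters of degrees 23 and 2300 -/
def seeds : List (List ℤ) := [
[23, -9, 7, -1, -4, 5, 7, -5, 3, -1, -1, 3, -1, -2, 3, 4, 0, 3, -3, 1, -1, 2, -3, -1, -1, 3, 1, 1, 2, 2, 1, -1, 1, -2, -3, 0, 1, 1, 2, -1, 0, -2, 0,
    0, 1, -1, 1, 0, -1, 0, 0, -1, 0, 0, -2, -1],
[2300, 284, 140, 52, 5, 41, 28, 40, 32, 4, 12, 16, 0, 0, 10, 5, 5, 11, 17, 5, 7, 4, 10, 4, 0, 4, 6, 2, 2, 0, 4, 2, 1, 1, 5, 5, 1, 1, 1, 3, 1, 4, 0, 1,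
    0, 2, 0, 2, 0, 0, 0, 1, 1, 0, 1, 0]]

/-- the rational irreducible characters -/
def A : List (List ℤ) := [
[1, 1, 1, 1, 1, 1, 1, 1, 1, 1, 1, 1, 1, 1, 1, 1, 1, 1, 1, 1, 1, 1, 1, 1, 1, 1, 1, 1, 1, 1, 1, 1, 1, 1, 1, 1, 1, 1, 1, 1, 1, 1, 1, 1, 1, 1, 1, 1, 1, 1,
    1, 1, 1, 1, 1, 1],
[23, -9, 7, -1, -4, 5, 7, -5, 3, -1, -1, 3, -1, -2, 3, 4, 0, 3, -3, 1, -1, 2, -3, -1, -1, 3, 1, 1, 2, 2, 1, -1, 1, -2, -3, 0, 1, 1, 2, -1, 0, -2, 0,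
    0, 1, -1, 1, 0, -1, 0, 0, -1, 0, 0, -2, -1],
[253, 29, 13, -11, 10, 10, 29, 9, 1, 5, -3, 1, 1, 3, 3, 10, 2, 2, 2, -2, -2, 1, 3, -3, 1, 5, -1, -1, 1, 3, -1, -1, 0, 2, 4, -2, 2, 0, 2, 0, -2, 1, -1,
    0, 0, -1, 1, -1, 1, -1, 0, 0, 0, 1, 2, 0],
[275, 51, 35, 11, 5, 14, 19, 15, 7, -5, 3, 7, -1, 0, 5, 5, -3, 6, 6, 2, 2, 2, 5, 3, -1, 3, 1, 1, 2, 0, 1, 1, 0, 1, 4, 1, -2, 0, 1, 0, 1, 2, 0, -1, 0,
    1, -1, 0, -1, 0, -1, 0, -1, -2, 1, 0],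
[1771, -21, -21, 11, -11, 16, 91, -5, -5, -5, 3, -5, -1, -4, 1, 21, -3, -6, 0, 0, 2, 0, -1, 3, -1, 7, -1, -1, -2, 4, -1, 1, 0, 1, -2, 1, 4, -2, 1, 0,
    1, 0, 0, 1, -1, 1, 1, 0, -1, 0, 0, 0, -1, 0, -1, 1],
[2024, 232, 104, 40, -1, 26, 8, 24, 24, 8, 8, 8, 0, -1, 4, -1, 7, 4, 10, 2, 4, 1, 4, 0, 0, 0, 4, 0, -1, -1, 2, 0, 0, -1, 0, 3, 2, 0, -1, 2, -1, 1, -1,
    1, -1, 0, 0, 1, 0, -1, 0, 0, 1, 1, -1, -1],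
[2277, -219, 133, -11, 9, 36, 21, -35, 13, 5, -3, 13, 1, 2, 7, 1, -3, 6, -12, 4, -2, 2, -7, -3, 1, 1, 1, 1, 0, -2, 1, -1, 0, 3, -2, 1, 0, -2, -1, 0,
    1, -2, 0, 1, -1, -1, -1, 0, 1, 0, 0, 0, -1, 0, 1, 1],
[4025, -231, 105, 1, -25, 29, 105, -35, 5, 1, 1, 5, 1, 0, 5, 15, 3, 9, -3, -3, 1, 0, -5, 1, 1, 5, -1, -1, 2, 0, -1, 1, -1, -3, -7, -1, -3, 1, 1, 1,
    -1, 0, 0, -1, 0, 1, -1, 0, 1, 0, 0, 1, 1, 0, -1, 0],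
[7084, -84, -84, 44, 10, 19, 140, -4, -4, 12, -4, -4, -4, 9, -1, 18, 6, -9, 3, 3, -1, 0, 0, 4, 4, 4, 0, 0, -2, 1, 1, -1, 0, -4, -1, 2, -1, -1, 0, -1,
    2, 0, 0, -1, 0, 0, 0, 0, 1, 1, 0, 1, 0, 0, 1, -2],
[12650, 554, 330, 26, -40, 59, -6, 50, 2, 10, 2, 18, 6, 0, 5, 0, -4, -1, 11, 3, -1, 1, 6, 2, -2, -2, -2, 2, -1, 0, -1, 1, 0, -6, -1, -4, 3, -1, -2,
    -1, 0, 1, 1, -1, 0, 0, 0, -1, 1, 0, 0, -1, 0, 1, -1, 0],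
[23000, 600, 280, 120, 50, 5, 184, 40, 8, 24, 8, 8, 0, 0, 0, 10, 6, 15, -3, 1, 3, -2, 0, 8, 0, 0, 0, 0, 2, 0, 0, 0, -1, 4, 5, 2, 1, 1, 0, -1, 2, -2,
    0, 0, 0, 0, 0, 0, 0, 0, 0, -1, 0, 2, 0, 0],
[31625, 1385, 505, 145, 35, 35, 41, 45, 53, 1, 25, 5, 5, 0, 0, -5, -1, 5, 11, 7, 1, -1, -1, 1, 5, 1, 3, -1, -1, 0, 0, 0, 0, 5, -1, -1, -1, 3, 1, 1,
    -1, -1, 1, 0, 0, -1, 1, -1, 0, 0, 0, 1, -1, -1, 0, 0],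
[31625, 265, -55, -55, 35, 35, 377, 25, -7, -7, 1, -7, 5, 0, 0, 35, -5, -5, -5, -1, -1, -1, 1, -7, -3, 5, 1, 1, -1, 0, 0, 0, 0, -1, 5, -1, -1, 1, -1,
    1, -1, -1, 1, 0, 0, -1, -1, 1, 0, 0, 0, -1, 1, -1, 0, 0],
[31878, -378, 518, -26, 45, 45, -42, -26, -26, -10, -2, 22, -6, 3, 3, 5, 9, -15, -3, 5, 1, 0, -2, -2, 2, -6, -2, 2, 0, 3, -3, -1, 0, 3, 1, 1, -3, 1,
    -1, 1, 1, 0, 0, 0, 0, 0, 0, 0, -1, -1, 0, 1, 1, 0, 0, 0],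
[37422, 1134, 462, -66, 0, 81, 126, 86, 6, -18, -10, 6, -6, -3, 7, 0, 0, 9, 9, -3, -3, 0, 6, -2, 2, 2, -2, -2, 0, -3, -1, -1, 0, 0, 3, 0, -3, -1, 0,
    -1, 0, 0, 0, 1, 0, 0, 0, 0, -1, 1, 1, 1, 0, 0, -1, 0],
[44275, -1869, 595, -29, -5, 94, 35, -85, 59, -13, -5, 11, -1, 0, 5, -5, 3, 6, -18, -2, -2, 0, -5, 3, -1, -1, 3, -1, -2, 0, 1, 1, 0, -1, 2, -1, 2, 2,
    -1, -2, -1, 0, 0, -1, 0, 1, 1, 0, -1, 0, 0, 0, 1, 0, 1, 0],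
[63250, -110, 210, -110, -65, -20, 322, -30, 2, 2, 10, 2, -10, 0, 0, 15, 7, 10, 4, 0, -2, -2, 2, -6, 6, -2, 2, 2, 1, 0, 0, 0, 0, 7, -4, -1, 4, 0, -1,
    -2, -1, 2, 0, 0, 0, 0, 0, 1, 0, 0, 0, 0, -1, 0, 0, 0],
[113850, 954, -70, 154, 45, -9, 138, 10, 10, -22, 2, 10, 6, 0, -5, 5, 9, 9, -9, -1, 1, 2, -2, 2, 6, -2, -2, -2, 0, 0, -1, -1, 0, 3, 1, 1, 3, 1, -1,
    -1, 1, 2, 0, 1, 0, 0, 0, 0, 1, 0, 0, -1, 1, -2, -1, 0],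
[129536, 512, -512, 0, -64, 44, 512, 0, 0, 0, 0, 0, 0, -14, -4, 16, 8, -16, -4, 4, 0, 1, 0, 0, 0, 0, 0, 0, -1, -2, 2, 0, 0, 8, 0, 0, -4, 0, 0, 0, 0,
    1, -1, -1, 1, 0, 0, -1, 0, 0, 0, 0, 0, 1, -1, 1],
[177100, -1204, 140, 44, -20, -29, 588, -20, 12, -20, -20, 12, 4, 0, -5, 20, -16, 11, 11, -1, -1, 0, 0, 4, -4, -4, 0, 0, 1, 0, 1, -1, 0, -6, -3, 0, 3,
    1, -2, 1, 0, 0, 0, 1, 0, 0, 0, -1, -1, 0, 0, 1, 0, 0, 1, 0],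
[184437, 2997, 405, 261, 0, 0, -27, -3, 45, 21, -3, -3, 9, 12, -3, 0, 0, 0, 0, 0, 0, 1, -3, -3, 1, 1, 5, 1, 0, 0, -3, 1, 0, 0, 0, 0, 0, 0, 0, 0, 0, 1,
    -1, 0, 0, -1, -1, 0, -1, 2, 0, 0, 0, 1, 0, 0],
[212520, -2520, 1064, 40, 111, 120, -56, -104, -40, 8, 8, 8, 0, -5, 0, -1, -9, 0, 0, -4, 4, 0, -4, 0, 0, 0, -4, 0, 0, -1, 0, 0, 0, 7, 2, -1, 4, -2,
    -1, 2, -1, 0, 0, 0, 1, 0, 0, 0, 0, 1, 0, 0, -1, 0, 0, -1],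
[221375, 4095, 735, 15, -160, -25, -49, -25, 87, -1, 7, -9, -5, 0, 0, 0, 0, -15, 15, 3, -3, 0, -9, -1, 3, 3, -1, -1, 2, 0, 0, 0, 0, -4, 3, 0, -1, -1,
    -4, 1, 0, 0, 0, 0, 0, 1, 1, 0, 0, 0, 0, -1, 0, 0, 0, 0],
[226688, 4480, 896, 128, -4, 68, 0, 64, 64, 0, 0, 0, 0, 13, -2, -4, -20, 10, 4, -4, 2, 0, 0, 0, 0, 0, 0, 0, -1, 1, 0, -2, 0, 0, -2, 4, 0, -2, 0, 0, 0,
    0, 0, -2, 1, 0, 0, 1, 0, -1, 0, 0, 0, 0, 0, 1],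
[245916, 3996, 1308, 156, 0, 81, -36, 76, 12, -36, -4, 12, -4, -9, 1, 0, 0, -9, 9, -3, 3, -1, 0, -4, -4, -4, 0, 0, 0, 3, 1, 1, 0, 0, -3, 0, -3, 1, 0,
    -1, 0, -1, -1, 1, 0, 0, 0, 0, 1, 1, 0, -1, 0, -1, 1, 0],
[253000, 2120, -440, 200, -125, 10, 104, -40, 24, 40, -24, 8, 0, 0, 0, -5, 23, -10, 2, -2, 2, -1, 4, 0, 0, 0, 4, 0, 1, 0, 0, 0, 0, 5, 0, 3, 2, -4, 1,
    0, -1, -1, 1, 0, 0, 0, 0, -1, 0, 0, 0, 0, 1, -1, 0, 0],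
[284625, -3855, 1505, -55, -90, 45, 273, -115, 5, -7, 1, 5, 5, 0, 0, -10, 6, 15, -3, 5, -1, -2, 3, -7, -3, 1, -1, -1, 0, 0, 0, 0, 0, -6, -1, 2, -3,
    -1, 2, 1, 2, 2, 0, 0, 0, -1, 1, 0, 0, 0, 0, -1, 0, 0, 0, 0],
[312984, -1512, -168, 120, 0, 81, 504, -56, -24, 24, 8, -24, 0, 9, 4, 0, 0, -9, 9, -3, 3, 0, 0, 8, 0, 0, 0, 0, 0, -3, -2, 0, 1, 0, -3, 0, -3, 1, 0,
    -1, 0, 0, 0, 1, 0, 0, 0, 0, 0, -1, 0, -1, 0, 0, 1, 0],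
[368874, 810, -630, -198, 0, 0, 378, -30, 18, 42, 18, 18, -10, 24, -6, 0, 0, 0, 0, 0, 0, 2, 6, -6, -2, -2, -2, -2, 0, 0, 0, 2, 0, 0, 0, 0, 0, 0, 0, 0,
    0, -2, 0, 0, 0, 0, 0, 0, 0, 0, 0, 0, 0, 0, 0, 0],
[398475, 4011, 1435, 259, -45, 36, -21, 55, -17, 19, 27, -1, -1, 0, -5, -5, 15, 6, -12, 4, -2, 0, 1, 3, -1, 3, -3, 1, 0, 0, 1, -1, 0, -3, -2, -5, 0,
    -2, 1, 0, -1, 0, 0, 1, 0, 1, -1, 0, -1, 0, 0, 0, 1, 0, 1, 0],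
[398475, -6741, 1435, -61, -45, 36, -21, -25, 95, 19, -21, -1, -9, 0, -5, -5, -9, -6, -12, 4, 2, 0, 5, 3, -1, 3, 1, 1, 0, 0, -1, -1, 0, -3, 2, -1, 0,
    2, 1, 0, -1, 0, 0, 1, 0, 1, -1, 0, 1, 0, 0, 0, -1, 0, -1, 0],
[430353, -5103, 273, 177, 0, 81, -63, -31, 33, 33, -7, -15, 5, 3, -2, 0, 0, 9, 9, -3, -3, 0, -3, 1, 5, -3, -3, 1, 0, 3, 2, 2, 0, 0, 3, 0, -3, -1, 0,
    -1, 0, 0, 0, 1, 0, -1, -1, 0, 0, -1, 0, 1, 0, 0, -1, 0],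
[442750, -770, 1470, -130, -185, 40, -210, 30, -66, 46, 6, 14, 10, 0, 0, 15, -5, -20, -8, 0, -4, 0, 2, 6, 2, -6, 2, -2, 1, 0, 0, 0, 0, -3, 0, 3, 0, 0,
    1, 0, -1, 0, 0, 0, 0, 0, 0, 1, 0, 0, 0, 0, -1, 0, 0, 0],
[462000, 5040, 560, -400, 30, 120, 112, 80, 16, 48, -16, -16, 0, 0, 0, -10, 18, 0, 0, -4, -4, 0, 0, 0, 0, 0, 0, 0, 0, 0, 0, 0, 0, 4, -2, -2, 4, 2, 0,
    2, 2, 0, 0, 0, 0, 0, 0, 0, 0, 0, -1, 0, 0, 0, 0, 0],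
[467775, -3969, 735, 111, 0, -81, 63, 55, 39, 15, -17, -9, -1, 0, 5, 0, 0, -9, -9, 3, 3, 0, 3, -1, 7, -1, -5, -1, 0, 0, 1, 1, 0, 0, -3, 0, 3, 1, 0, 1,
    0, 0, 0, -1, 0, -1, -1, 0, -1, 0, 1, -1, 0, 0, 1, 0],
[558900, 2484, 1140, 276, 0, -81, 468, 20, -12, -12, 4, -12, -4, 0, 5, 0, 0, 9, -9, 3, -3, -1, 0, 4, -4, -4, 0, 0, 0, 0, -1, 1, 1, 0, 3, 0, 3, -1, 0,
    1, 0, -1, -1, -1, 0, 0, 0, 0, 1, 0, 0, 1, 0, -1, -1, 0],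
[637560, 5880, 952, 280, 90, -45, -168, -56, 40, 56, 8, 8, 0, -15, 0, 10, -6, -15, 3, -5, 1, 0, 0, -8, 0, 0, 0, 0, 0, -3, 0, 0, 0, -6, 1, -2, 3, 1, 2,
    -1, 2, 0, 0, 0, 0, 0, 0, 0, 0, -1, 0, 1, 0, 0, 0, 0],
[664125, 2205, 1645, -315, 195, -30, 77, -15, -39, 37, -11, -7, 5, 0, 0, -5, -9, 0, 18, 10, 0, 0, -5, -3, -3, 1, -1, -1, 0, 0, 0, 0, 0, 5, 0, 3, 2, 0,
    1, -2, -1, 0, 0, 0, 0, 1, -1, 0, 0, 0, 0, 0, 1, 0, 0, 0],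
[664125, -1155, -35, 365, 195, -30, -35, 5, -11, 45, -3, 5, 5, 0, 0, -5, 15, 0, -6, -2, -4, 0, 5, -3, -3, 5, -3, 1, 0, 0, 0, 0, 0, 1, -2, 7, -2, 2,
    -3, 0, -1, 0, 0, 0, 0, 1, 1, 0, 0, 0, 0, 0, -1, 0, 0, 0],
[664125, -1155, -35, -275, 195, -30, 637, 85, 5, 13, -3, 5, 5, 0, 0, -5, 15, 0, -6, -2, 4, 0, -7, -3, 5, -3, 1, 1, 0, 0, 0, 0, 0, -11, 2, -1, -2, -2,
    1, 0, -1, 0, 0, 0, 0, 1, 1, 0, 0, 0, 0, 0, -1, 0, 0, 0],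
[853875, 7155, 435, -45, 135, 0, -237, -45, 51, -77, 3, -13, -5, 0, 0, 15, 27, 0, 0, 0, 0, 1, -1, 3, -5, -5, -1, -1, 0, 0, 0, 0, 0, -3, 0, 3, 0, 0, 1,
    0, -1, 1, 1, 0, 0, -1, -1, 0, 0, 0, 0, 0, -1, 1, 0, 0],
[1288000, -2240, -2240, 320, 100, 100, 448, 0, 0, -64, 0, 0, 0, 0, 0, -20, -8, -20, 4, 4, -4, 0, 0, 0, 0, 0, 0, 0, 1, 0, 0, 0, -1, -2, 0, 0, 4, 0, 2,
    0, 0, 0, 0, 0, 0, 0, 0, 1, 0, 0, 0, 0, 0, 0, 0, 0],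
[1291059, 2835, 1827, 27, 0, 0, -189, 39, -81, -69, -21, 15, -5, 9, -6, 0, 0, 0, 0, 0, 0, 0, -3, 3, 3, 7, 1, 1, 0, -3, 0, 2, 0, 0, 0, 0, 0, 0, 0, 0,
    0, 0, 0, 0, 0, -1, 1, 0, 0, -1, 0, 0, 0, 0, 0, 0],
[1771000, 1400, -840, -40, -200, 115, -168, 40, -56, -8, 8, -24, 0, 0, 0, 0, -4, 5, -13, 3, 5, 0, 0, -8, 0, 0, 0, 0, 1, 0, 0, 0, 0, -6, 1, 4, 3, 1,
    -2, -1, 0, 0, 0, 0, 0, 0, 0, -1, 0, 0, 0, 1, 0, 0, 0, 0],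
[1771000, -12040, 1400, -200, 205, -20, -168, 40, 40, -40, 24, -8, 0, 0, 0, 5, -7, -10, -4, -4, -2, 0, 4, 0, 0, 0, 4, 0, 1, 0, 0, 0, 0, 3, -2, 1, 0,
    -2, -1, 0, 1, 0, 0, 0, 0, 0, 0, -1, 0, 0, 0, 0, 1, 0, 0, 0],
[1835008, 0, 0, 0, -128, -128, 0, 0, 0, 0, 0, 0, 0, 8, 8, 0, 0, 0, 0, 0, 0, 0, 0, 0, 0, 0, 0, 0, -2, 0, 0, 0, -1, 0, 0, 0, 0, 0, 0, 0, 0, 0, 0, 2, 2,
    0, 0, 0, 0, 0, -1, 0, 0, 0, 0, 0],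
[1943040, 7680, 512, 0, -96, -60, 512, 0, 0, 0, 0, 0, 0, -10, 0, -16, -24, 0, -12, -4, 0, 1, 0, 0, 0, 0, 0, 0, 0, 2, 0, 0, 0, 8, 0, 0, -4, 0, 0, 0, 0,
    1, 1, 0, -1, 0, 0, 0, 0, 0, 0, 0, 0, 1, 0, -1],
[1992375, 3255, -1225, 215, 180, 45, -441, -25, -25, 39, -17, -9, -5, 0, 0, 20, -12, 15, -3, 5, -1, 0, 3, -1, 3, -5, 3, -1, 0, 0, 0, 0, 0, 0, -1, -4,
    -3, -1, 0, 1, 0, 0, 0, 0, 0, 1, 1, 0, 0, 0, 0, -1, 0, 0, 0, 0],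
[2004750, 8910, -1170, -450, 0, 0, -162, -90, 54, -18, 6, 6, 10, 0, 0, 0, 0, 0, 0, 0, 0, -1, 6, 6, 2, 2, -2, 2, 0, 0, 0, 0, 0, 0, 0, 0, 0, 0, 0, 0, 0,
    -1, -1, 0, 0, 0, 0, 0, 0, 0, 1, 0, 0, -1, 0, 0],
[2040192, -2688, 896, 128, -36, -36, 0, -64, -64, 0, 0, 0, 0, 17, 2, -4, 12, -6, 12, -4, 2, 0, 0, 0, 0, 0, 0, 0, 0, 1, 2, -2, 0, 0, 2, -4, 0, 2, 0, 0,
    0, 0, 0, -1, -1, 0, 0, 0, 0, 1, 0, 0, 0, 0, -1, 1],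
[2072576, -8192, 0, 0, -160, -16, 0, 0, 0, 0, 0, 0, 0, -24, -4, 0, 16, 16, 16, 0, 0, 2, 0, 0, 0, 0, 0, 0, -1, 0, -2, 0, 0, 0, 0, 0, 0, 0, 0, 0, 0, -2,
    0, -1, 0, 0, 0, 1, 0, 0, 0, 0, 0, 0, 1, 0],
[2095875, -3645, -2205, -45, 0, 0, -189, 75, 27, 51, 3, 27, -5, 0, 0, 0, 0, 0, 0, 0, 0, -2, -9, 3, -5, 3, -1, -1, 0, 0, 0, 0, 1, 0, 0, 0, 0, 0, 0, 0,
    0, 2, 0, 0, 0, -1, -1, 0, 0, 0, 0, 0, 0, 0, 0, 0]]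

/-- the sums of two conjugate characters -/
def B : List (List ℤ) := [
[19250, -910, 210, -30, 80, -10, -14, 10, 58, 2, -14, -6, 10, 0, 0, 0, 8, -10, -10, 6, 6, 0, 6, 2, -6, 2, -2, -2, 2, 0, 0, 0, 0, 4, -2, -8, -2, -2,
    -4, -2, 0, 0, 0, 0, 0, -2, 2, 2, 0, 0, -1, 2, 0, 0, 0, 0],
[20790, 630, -42, -90, 54, 0, -42, -18, 30, 38, 6, -2, -10, -10, 0, 6, -18, 0, 0, 0, 0, 0, 2, 6, 6, -2, -6, 2, 0, -2, 0, 0, 0, -6, 0, 6, 0, 0, 2, 0,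
    -2, 0, 0, 0, -1, -2, 2, 0, 0, 2, -2, 0, 2, 0, 0, 1],
[182250, 810, -630, 90, 0, 0, -54, -30, 18, -102, -6, 18, 10, 0, 0, 0, 0, 0, 0, 0, 0, -2, 6, -6, 10, 2, -2, -2, 0, 0, 0, 0, 2, 0, 0, 0, 0, 0, 0, 0, 0,
    -2, 0, 0, 0, 2, -2, 0, 0, 0, -2, 0, 0, 2, 0, 0],
[478170, -5670, -294, 90, -216, 0, -294, 90, 90, -38, -6, -6, 10, 20, 0, 24, 0, 0, 0, 0, 0, 0, -6, -6, -6, -6, -6, 2, 0, -4, 0, 0, 0, 12, 0, 0, 0, 0,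
    4, 0, 0, 0, 0, 0, -1, 2, 2, 0, 0, 0, 0, 0, 0, 0, 0, -1]]

/-- the primes and the sections -/
def PL : List (ℕ × ℕ × List ℕ) := [(2, 18, [0, 4, 5, 13, 14, 21, 28, 43, 44]),
  (3, 6, [0, 1, 2, 3, 6, 7, 8, 9, 10, 11, 13, 14, 22, 23, 29, 30]),
  (5, 3, [0, 1, 2, 3, 4, 5, 7, 12, 15, 17]),
  (7, 1, [0, 1, 2, 6]),
  (11, 1, [0]),
  (23, 1, [0])]

/-- the certificates -/
def CL : List (ℕ × ℕ × List Cert) := [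
  (2, 18, [
⟨0, [.one, .gen 0 1 0, .mul 0 0, .mul 1 0, .mul 2 0, .mul 3 0, .mul 4 0, .gen 1 1 0, .mul 6 0, .mul 7 0, .mul 8 0, .mul 3 3, .mul 4 3, .mul 5 3, .mul
      6 2, .gen 0 1 1, .mul 14 0, .mul 9 1, .gen 1 1 1, .mul 11 0, .lin [(85971, 19), (149794, 18), (113569, 17), (37452, 16), (100053, 15), (74898,
      14), (224695, 13)], .lin [(258050, 20), (29179, 19), (157206, 18), (163060, 17), (109032, 16), (69905, 15), (224695, 13), (12483, 12), (37449,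
      11), (249661, 10)], .lin [(224920, 21), (180814, 20), (58258, 19), (194910, 18), (184471, 17), (55225, 16), (50517, 14), (44367, 13), (63231,
      12), (89719, 10), (155558, 9), (160604, 8), (2119, 7), (205505, 6), (168805, 5), (220201, 4)], .lin [(51347, 22), (59571, 21), (228898, 20),
      (66594, 19), (112907, 18), (135979, 17), (164120, 15), (58992, 14), (174552, 13), (110468, 11), (101576, 10), (10772, 9), (84104, 8), (131008,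
      7)], .lin [(108244, 23), (136987, 22), (203587, 21), (211513, 20), (120309, 19), (146955, 16), (156302, 15), (127891, 14), (103865, 12),
      (140815, 11), (230073, 9), (169996, 8), (86356, 7)], .lin [(172518, 24), (95154, 23), (130532, 22), (247020, 21), (6356, 20), (115003, 17),
      (248280, 16), (231581, 15), (261829, 13), (163525, 12), (178334, 9), (211102, 8)], .lin [(65764, 25), (54312, 24), (54801, 23), (31293, 22),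
      (223668, 18), (164388, 17), (192206, 16), (249993, 14), (120565, 10), (85605, 9), (178813, 6)], .lin [(191149, 26), (234837, 25), (70995, 24),
      (27307, 23), (87381, 19), (174763, 17)], .lin [(49153, 27), (5461, 26), (81918, 25), (256684, 24), (131073, 20), (262143, 19), (131071, 12), (1,
      11)], .lin [(98303, 28), (87381, 27), (163841, 26), (174763, 25)], .lin [(43695, 29), (54609, 28), (152927, 27), (196594, 22), (87384, 21),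
      (43692, 18), (251231, 14), (54613, 11)], .lin [(196609, 30), (65533, 28), (2, 23), (262142, 15)], .lin [(131082, 31), (131072, 30), (262134,
      29), (262142, 24), (1, 20)], .lin [(21845, 32), (240299, 25), (21845, 17)], .lin [(131074, 33), (131070, 32), (262143, 26), (1, 25)], .lin
      [(131071, 34), (131073, 33), (1, 27)], .lin [(1, 35), (1, 34)], .lin [(1, 36)]], [(17, 1), (18, 2), (16, 2), (10, 4), (11, 4), (12, 8), (15, 8),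
      (13, 8), (14, 16), (8, 16), (9, 32), (5, 64), (6, 128), (4, 64), (7, 512), (3, 256), (2, 1024), (0, 8192)]⟩,
⟨4, [.one, .gen 0 1 0, .mul 0 0, .mul 1 0, .mul 2 0, .gen 1 1 0, .gen 0 3 0, .mul 0 0, .lin [(87376, 6), (87380, 5), (240300, 4), (174763, 3)], .lin
      [(109228, 7), (202069, 5)], .lin [(262143, 9), (174764, 8), (116508, 7), (233017, 2)], .lin [(2, 9), (1, 8)], .lin [(262143, 11), (1, 6)], .lin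
      [(131071, 11)], .lin [(1, 13), (174763, 7)], .lin [(1, 14)]], [(7, 1), (6, 2), (3, 2), (4, 4), (5, 8), (2, 8), (0, 16), (1, 128)]⟩,
⟨5, [.one, .gen 0 1 0, .mul 0 0, .mul 1 0, .mul 2 0, .gen 1 1 0, .mul 4 0, .mul 5 0, .mul 2 2, .gen 0 1 1, .mul 8 0, .mul 9 0, .lin [(132427, 11),
      (92844, 10), (226658, 9), (169300, 8), (165203, 7), (169300, 6), (92844, 4)], .lin [(218735, 12), (236639, 11), (116377, 10), (240355, 9),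
      (105398, 7), (178366, 6), (214850, 4), (190865, 3), (174988, 2), (158435, 1)], .lin [(65537, 13), (131072, 12), (196606, 11), (262143, 10),
      (131073, 8), (1, 7)], .lin [(27307, 14), (92851, 13), (38235, 12), (169301, 11), (87384, 9), (109226, 6), (8, 5)], .lin [(32777, 15), (131080,
      14), (98303, 13), (3, 6), (131075, 5)], .lin [(262143, 16), (174762, 15), (174763, 14)], .lin [(1, 17), (1, 16), (2, 8)], .lin [(131071, 9)],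
      .lin [(262143, 19), (1, 14)], .lin [(1, 20)]], [(9, 1), (8, 2), (1, 2), (4, 4), (5, 4), (6, 4), (7, 16), (3, 8), (0, 16), (2, 128)]⟩,
⟨13, [.one, .gen 0 1 0, .mul 0 0, .lin [(2, 1), (1, 0)], .lin [(131071, 2)], .lin [(1, 4)]], [(2, 1), (0, 2), (1, 8)]⟩,
⟨14, [.one, .gen 0 1 0, .mul 0 0, .gen 1 1 0, .lin [(32761, 3), (262136, 2), (229375, 1), (131076, 0)], .lin [(131070, 4), (131070, 3), (1, 1)], .lin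
      [(131073, 5), (131071, 4)], .lin [(1, 6)]], [(1, 1), (3, 2), (0, 2), (2, 8)]⟩,
⟨21, [.one, .gen 0 1 0, .mul 0 0, .gen 0 1 1, .lin [(262142, 2), (1, 1)], .lin [(1, 3)], .lin [(131073, 5), (131071, 2)], .lin [(1, 6)]], [(2, 1), (3,
      2), (0, 2), (1, 8)]⟩,
⟨28, [.one, .gen 0 1 0, .lin [(2, 1), (131071, 0)], .lin [(1, 2)]], [(0, 1), (1, 2)]⟩,
⟨43, [.one, .gen 0 1 0, .lin [(131071, 0)], .lin [(1, 2)]], [(0, 1), (1, 2)]⟩,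
⟨44, [.one, .gen 0 1 0, .lin [(131073, 1), (131071, 0)], .lin [(1, 2)]], [(0, 1), (1, 2)]⟩]),
  (3, 6, [
⟨0, [.one, .gen 0 1 0, .mul 0 0, .lin [(209, 2), (364, 1), (677, 0)], .lin [(727, 3), (1, 2)], .lin [(1, 4)]], [(3, 1), (2, 3), (0, 27)]⟩,
⟨1, [.one, .gen 0 1 0, .mul 0 0, .mul 1 0, .gen 1 1 0, .lin [(189, 4), (360, 3), (126, 2), (638, 1), (270, 0)], .lin [(561, 5), (84, 4), (131, 3),
      (84, 1)], .lin [(182, 6), (273, 5), (638, 2)], .lin [(1, 6)], .lin [(1, 8)]], [(4, 1), (2, 3), (3, 3), (0, 9), (1, 81)]⟩,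
⟨2, [.one, .gen 0 1 0, .mul 0 0, .lin [(500, 2), (602, 1), (365, 0)], .lin [(250, 3), (485, 2)], .lin [(1, 4)]], [(0, 1), (1, 3), (2, 9)]⟩,
⟨3, [.one, .gen 1 1 0, .lin [(383, 1), (259, 0)], .lin [(1, 2)]], [(0, 1), (1, 9)]⟩,
⟨6, [.one, .gen 0 1 0, .mul 0 0, .lin [(7, 2), (721, 1), (1, 0)], .lin [(364, 3), (365, 2)], .lin [(1, 4)]], [(2, 1), (0, 3), (1, 27)]⟩,
⟨7, [.one, .gen 0 1 0, .lin [(367, 1), (365, 0)], .lin [(1, 2)]], [(0, 1), (1, 3)]⟩,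
⟨8, [.one, .gen 0 1 0, .mul 0 0, .lin [(9, 2), (647, 0)], .lin [(366, 3), (121, 2)], .lin [(1, 4)]], [(0, 1), (1, 3), (2, 9)]⟩,
⟨9, [.one, .gen 0 1 0, .lin [(1, 1), (1, 0)], .lin [(1, 2)]], [(0, 1), (1, 3)]⟩,
⟨10, [.one, .gen 0 2 0, .lin [(611, 1), (121, 0)], .lin [(1, 2)]], [(0, 1), (1, 3)]⟩,
⟨11, [.one, .gen 0 1 0, .lin [(3, 1), (485, 0)], .lin [(1, 2)]], [(0, 1), (1, 3)]⟩,
⟨13, [.one, .gen 0 1 0, .lin [(2, 1), (1, 0)], .lin [(1, 2)]], [(0, 1), (1, 3)]⟩,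
⟨14, [.one, .gen 0 1 0, .lin [(3, 1), (485, 0)], .lin [(1, 2)]], [(0, 1), (1, 3)]⟩,
⟨22, [.one, .gen 0 1 0, .lin [(3, 1), (1, 0)], .lin [(1, 2)]], [(0, 1), (1, 3)]⟩,
⟨23, [.one, .gen 1 1 0, .lin [(247, 1), (485, 0)], .lin [(1, 2)]], [(0, 1), (1, 3)]⟩,
⟨29, [.one, .gen 0 1 0, .lin [(488, 1), (485, 0)], .lin [(1, 2)]], [(0, 1), (1, 3)]⟩,
⟨30, [.one, .gen 0 1 0, .lin [(244, 1), (485, 0)], .lin [(1, 2)]], [(0, 1), (1, 3)]⟩]),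
  (5, 3, [
⟨0, [.one, .gen 0 1 0, .lin [(93, 1), (94, 0)], .lin [(1, 2)]], [(2, 1), (0, 5)]⟩,
⟨1, [.one, .gen 0 1 0, .lin [(67, 1), (63, 0)], .lin [(1, 2)]], [(0, 1), (1, 5)]⟩,
⟨2, [.one, .gen 0 1 0, .lin [(57, 1), (99, 0)], .lin [(1, 2)]], [(0, 1), (1, 5)]⟩,
⟨3, [.one, .gen 0 2 0, .lin [(112, 1), (6, 0)], .lin [(1, 2)]], [(0, 1), (1, 5)]⟩,
⟨4, [.one, .gen 0 1 0, .lin [(4, 1), (1, 0)], .lin [(1, 2)]], [(0, 1), (1, 5)]⟩,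
⟨5, [.one, .gen 0 1 0, .lin [(5, 1), (99, 0)], .lin [(1, 2)]], [(0, 1), (1, 5)]⟩,
⟨7, [.one, .gen 0 1 0, .lin [(5, 1), (1, 0)], .lin [(1, 2)]], [(0, 1), (1, 5)]⟩,
⟨12, [.one, .gen 0 4 0, .lin [(112, 1), (6, 0)], .lin [(1, 2)]], [(0, 1), (1, 5)]⟩,
⟨15, [.one, .gen 0 1 0, .lin [(104, 1), (99, 0)], .lin [(1, 2)]], [(0, 1), (1, 5)]⟩,
⟨17, [.one, .gen 0 1 0, .lin [(78, 1), (99, 0)], .lin [(1, 2)]], [(0, 1), (1, 5)]⟩]),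
  (7, 1, [
⟨0, [.one, .lin [(1, 0)]], [(0, 1)]⟩,
⟨1, [.one, .lin [(1, 0)]], [(0, 1)]⟩,
⟨2, [.one, .lin [(1, 0)]], [(0, 1)]⟩,
⟨6, [.one, .lin [(1, 0)]], [(0, 1)]⟩]),
  (11, 1, [
⟨0, [.one, .lin [(1, 0)]], [(0, 1)]⟩]),
  (23, 1, [
⟨0, [.one, .lin [(1, 0)]], [(0, 1)]⟩])]

theorem okPow : D.okPow = true := by decide +kernel

theorem okSep : D.okSep (nth valL) = true := by decide +kernel

theorem okSum : D.okSum = true := by decide +kernel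

theorem ok_ord : okOrd D (nth valL) = true := by decide +kernel

theorem ok_one : okOne D = true := by decide +kernel

theorem ok_primes : okPrimes D PL = true := by decide +kernel

theorem ok_rows : okRows' D A B = true := by decide +kernel

theorem ok_all : (PL.all fun x => x.2.2.all fun t => hasC CL x.1 t) = true := by decide +kernel

theorem ok_certs : allL (fun y => chkP D y.1 y.2.1 (y.1 ^ y.2.1) seeds y.2.2 (A ++ B)) CL = true := by decide +kernel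

/-- the degrees -/
def degL : List ℕ := [1, 23, 253, 275, 1771, 2024, 2277, 4025, 7084, 12650, 23000, 31625, 31625, 31878, 37422, 44275, 63250, 113850, 129536, 177100,
    184437, 212520, 221375, 226688, 245916, 253000, 284625, 312984, 368874, 398475, 398475, 430353, 442750, 462000, 467775, 558900, 637560, 664125,
    664125, 664125, 853875, 1288000, 1291059, 1771000, 1771000, 1835008, 1943040, 1992375, 2004750, 2040192, 2072576, 2095875, 9625, 9625, 10395,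
    10395, 91125, 91125, 239085, 239085]

theorem deg_eq : (mkRows A B).deg = degL := by decide +kernel

/-- **the consequences of the table** -/
theorem fin {G : Type*} [Group G] [Finite G] (h : Seeded G D seeds) : VAN.Van3 G ∧ DegList G degL := by
  obtain ⟨T, hm, hs⟩ := h
  obtain ⟨hI, hT⟩ := tab_of_virt hm ok_one (virt_of_certs hm.1 ok_primes hs (allL_spec ok_certs) ok_all) ok_rows
  refine ⟨hT.van3 hI hm.1 [(2, 18), (3, 6), (5, 3), (7, 1), (11, 1), (23, 1)] (by decide) 4 32 42 (by decide +kernel), ?_⟩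
  rw [← deg_eq]
  exact hT.degList

end Cfsg.Agent.TAB.Co2
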